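import Cfsg.Agent.DL.Rows.Cert

/-!
# The certificates for the exceptional types (helper7, generated)
-/

set_option autoImplicit false

namespace Cfsg.Agent.DL.Rows.Cert

def tyG2 : Ty where
  l := 2
  Am := [[2, -3], [-1, 2]]
  pi := [0, 1]
  c := [1, 1]
  L :=
    [[2, -3], [-1, 2], [-1, 3], [1, -1], [1, 0], [0, 1]]

theorem okG2 : tyG2.ok = true := by decide +kernel

def torG2a : Tor where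
  wd := [0, 1, 0, 1]
  Gt := [1, 1]
  gt := [1, 1]
  e := [1, 0]
  xs :=
    [[1, 0], [2, 1]]
  Us :=
    [[-2, -1], [1, 1], [1, 2], [-1, 0], [-1, 1], [0, 1]]
  B := [2, 3]
  c := 3
  q₀ := 3

theorem okG2a : torG2a.ok tyG2 = true := by decide +kernel

def torG2b : Tor where
  wd := [0, 1]
  Gt := [-1, 1]
  gt := [-1, 1]
  e := [1, 0]
  xs :=
    [[1, 0], [1, 1]]
  Us :=
    [[-2, 1], [1, 0], [1, 1], [-1, 1], [-1, 2], [0, 1]]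
  B := [2, 3]
  c := 3
  q₀ := 3

theorem okG2b : torG2b.ok tyG2 = true := by decide +kernel

theorem copG2 : copOK torG2a.Gt torG2b.Gt [1, -1]
    [1, 1] = true := by decide +kernel

def tyF4 : Ty where
  l := 4
  Am := [[2, -1, 0, 0], [-1, 2, -2, 0], [0, -1, 2, -1], [0, 0, -1, 2]]
  pi := [0, 1, 2, 3]
  c := [1, 1, 1, 1]
  L :=
    [[2, -1, 0, 0], [-1, 2, -2, 0], [0, -1, 2, -1], [0, 0, -1, 2], [1, 1, -2, 0], [-1, 0, 2, -2], [-1, 1, 0, -1],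
    [0, -1, 1, 1], [1, -1, 2, -2], [-1, 0, 0, 2], [1, 0, 0, -1], [-1, 1, -1, 1], [0, 1, 0, -2], [1, -1, 0, 2], [1,
    0, -1, 1], [-1, 0, 1, 0], [0, 1, -2, 2], [1, -1, 1, 0], [0, -1, 2, 0], [0, 1, -1, 0], [-1, 1, 0, 0], [0, 0, 1,
    -1], [1, 0, 0, 0], [0, 0, 0, 1]]

theorem okF4 : tyF4.ok = true := by decide +kernel

def torF4a : Tor where
  wd := [1, 0, 3, 2, 1, 2]
  Gt := [0, 0, 0, 1]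
  gt := [0, 0, 0, 1]
  e := [1, 0, 0, 0]
  xs :=
    [[1, 0, 0, 0], [0, 1, 1, 1], [1, 2, 1, 0], [0, -1, 0, 0]]
  Us :=
    [[0, -1, -2, -1], [1, 0, -1, -2], [0, 0, 0, 1], [1, -1, -1, -1], [0, 0, -1, -1], [-1, 0, 1, 0], [-1, 0, 1, 1],
    [-1, -1, 0, 1], [-1, 0, 0, 1], [-1, -2, -1, 0], [-1, -1, -1, 0], [0, -1, -1, -1], [-2, -1, 0, 1], [0, -1, -1,
    0], [0, 0, -1, 0], [-1, -1, 1, 1], [0, -1, 0, -1], [-1, -1, -1, 1], [0, -1, 0, 1], [-1, -1, -1, -1], [-1, -1,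
    0, 0], [-1, 0, 0, 0], [-1, 0, -1, 0], [0, -1, 0, 0]]
  B := [2, 3, 5]
  c := 2
  q₀ := 2

theorem okF4a : torF4a.ok tyF4 = true := by decide +kernel

def torF4b : Tor where
  wd := [0, 1, 2, 3]
  Gt := [0, -1, 0, 1]
  gt := [0, -1, 0, 1]
  e := [1, 0, 0, 0]
  xs :=
    [[1, 0, 0, 0], [0, 1, 0, 0], [0, 1, 1, 0], [1, 1, 1, 1]]
  Us :=
    [[-1, -1, -1, 0], [-1, -2, 0, 1], [0, 1, 1, 0], [1, 1, 0, 0], [0, -1, -1, 1], [-1, 0, 2, 1], [-1, -1, 1, 1],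
    [0, 1, 0, 0], [-2, -1, 1, 1], [1, 0, 0, 1], [-1, 0, 0, 0], [0, 0, 1, 1], [-1, -1, 1, 0], [0, 1, 1, 1], [-1, -1,
    0, 1], [0, 0, 1, 0], [-1, -1, 1, 2], [-1, 0, 1, 1], [-1, 1, 1, 0], [0, -1, 0, 1], [0, -1, 1, 1], [-1, 0, 1, 0],
    [-1, 0, 0, 1], [0, 0, 0, 1]]
  B := [2, 3, 5]
  c := 1
  q₀ := 2

theorem okF4b : torF4b.ok tyF4 = true := by decide +kernel

theorem copF4 : copOK torF4a.Gt torF4b.Gt [1, 0, -1]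
    [0, 0, 1] = true := by decide +kernel

def tyE6 : Ty where
  l := 6
  Am := [[2, 0, -1, 0, 0, 0], [0, 2, 0, -1, 0, 0], [-1, 0, 2, -1, 0, 0], [0, -1, -1, 2, -1, 0], [0, 0, 0, -1, 2, -1], [0, 0, 0, 0, -1, 2]]
  pi := [0, 1, 2, 3, 4, 5]
  c := [1, 1, 1, 1, 1, 1]
  L :=
    [[2, 0, -1, 0, 0, 0], [0, 2, 0, -1, 0, 0], [-1, 0, 2, -1, 0, 0], [0, -1, -1, 2, -1, 0], [0, 0, 0, -1, 2, -1],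
    [0, 0, 0, 0, -1, 2], [1, 0, 1, -1, 0, 0], [0, 1, -1, 1, -1, 0], [-1, -1, 1, 1, -1, 0], [0, -1, -1, 1, 1, -1],
    [0, 0, 0, -1, 1, 1], [1, -1, 0, 1, -1, 0], [-1, 1, 1, 0, -1, 0], [0, 1, -1, 0, 1, -1], [-1, -1, 1, 0, 1, -1],
    [0, -1, -1, 1, 0, 1], [1, 1, 0, 0, -1, 0], [1, -1, 0, 0, 1, -1], [-1, 1, 1, -1, 1, -1], [0, 1, -1, 0, 0, 1],
    [-1, -1, 1, 0, 0, 1], [1, 1, 0, -1, 1, -1], [1, -1, 0, 0, 0, 1], [-1, 0, 0, 1, 0, -1], [-1, 1, 1, -1, 0, 1],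
    [1, 0, -1, 1, 0, -1], [1, 1, 0, -1, 0, 1], [-1, 0, 0, 1, -1, 1], [0, 0, 1, 0, 0, -1], [1, 0, -1, 1, -1, 1],
    [-1, 0, 0, 0, 1, 0], [0, 0, 1, 0, -1, 1], [1, 0, -1, 0, 1, 0], [0, 0, 1, -1, 1, 0], [0, -1, 0, 1, 0, 0], [0, 1,
    0, 0, 0, 0]]

theorem okE6 : tyE6.ok = true := by decide +kernel

def torE6a : Tor where
  wd := [5, 2, 0, 3, 2, 1, 3, 4]
  Gt := [0, 0, 1, 0, 0, 1]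
  gt := [0, 0, 1, 0, 0, 1]
  e := [1, 0, 0, 0, 0, 0]
  xs :=
    [[1, 0, 0, 0, 0, 0], [0, 0, 0, 1, 0, 0], [0, 0, 1, 1, 1, 1], [1, 1, 1, 1, 1, 0], [0, 0, -1, 0, 0, 0], [0, -1,
    0, 0, 0, 0]]
  Us :=
    [[2, 2, -1, 1, -2, -2], [2, 2, 2, 1, 1, -2], [2, 2, 2, 4, 1, 1], [2, -1, -1, -2, -2, -2], [-1, -1, -1, 1, -2,
    1], [2, 2, -1, 1, 1, -2], [1, 1, 1, 2, -1, -1], [1, 1, 1, -1, -1, -1], [4, 1, 1, 2, -1, -1], [1, -2, 1, -1, -1,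
    2], [-2, -2, -2, -1, -1, -1], [2, 1, 0, 1, -1, 0], [2, 0, 1, 1, 0, -1], [-1, -2, 0, -2, -1, 0], [0, -2, -1, 0,
    -1, 1], [-1, 0, -2, -2, 0, -1], [2, -1, 2, 1, -2, 1], [-1, -1, -1, -2, -2, 1], [-1, -4, -1, -2, -2, 1], [-1,
    -1, -1, -2, -2, -2], [-1, -1, -4, -2, -2, -2], [1, -2, -2, -1, -4, -1], [1, 1, -2, -1, -1, -1], [1, -2, -2, -1,
    -1, -1], [1, 1, -2, -1, -1, -4], [1, -1, 0, -1, -2, 0], [0, 1, -1, 0, -1, -2], [1, 0, -1, -1, 0, -2], [2, -1,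
    -1, 1, -2, -2], [-1, 2, -1, -2, 1, -2], [-1, -1, -1, -2, 1, -2], [1, 1, -2, 2, -1, -1], [-2, 1, -2, -1, -1,
    -1], [0, -1, -2, 0, -2, -1], [2, -1, -1, 1, -2, 1], [1, -2, 1, -1, -1, -1]]
  B := [2, 3, 5, 7]
  c := 3
  q₀ := 2

theorem okE6a : torE6a.ok tyE6 = true := by decide +kernel

def torE6b : Tor where
  wd := [4, 1, 5, 2, 0, 3]
  Gt := [1, 0, -1, 0, 1, 1]
  gt := [0, -1, 0, 1]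
  e := [0, -1, -1, -1, -1, 0]
  xs :=
    [[0, -1, -1, -1, -1, 0], [-1, -1, -2, -2, -2, -1], [-1, -1, -1, -2, -1, -1], [0, 0, 0, -1, 0, 0]]
  Us :=
    [[0, 0, -1, 0], [1, 0, 0, 1], [-1, 1, 1, -1], [0, -1, 1, -1], [-1, 1, 1, -1], [0, 0, -1, 0], [0, 1, 0, 0], [1,
    -1, -1, 0], [0, 0, 0, -1], [0, 0, 0, -1], [0, 1, 0, 0], [-1, 1, 0, -1], [1, 0, 0, 0], [1, 0, 0, 0], [0, 1, 1,
    -1], [-1, 1, 0, -1], [1, 0, -1, 0], [0, 1, 0, -1], [1, -1, 1, 0], [1, 0, -1, 0], [0, 1, 0, -1], [1, 0, -1, 1],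
    [0, 1, -1, -1], [1, 0, 0, -1], [1, 0, -1, 1], [1, -1, 0, 0], [1, 1, -1, 0], [1, -1, 0, 0], [0, 0, 1, -1], [1,
    0, -2, 1], [0, 0, 1, -1], [0, 1, -1, 0], [0, 1, -1, 0], [-1, 2, 0, -1], [-1, 1, 1, -2], [2, -1, -1, 1]]
  B := [2, 3, 5, 7]
  c := 1
  q₀ := 2

theorem okE6b : torE6b.ok tyE6 = true := by decide +kernel

theorem copE6 : copOK torE6a.Gt torE6b.Gt [0, -2, 0, -1, 0, -2]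
    [3, -1, 1, 3, -2, 2] = true := by decide +kernel

def tyE7 : Ty where
  l := 7
  Am := [[2, 0, -1, 0, 0, 0, 0], [0, 2, 0, -1, 0, 0, 0], [-1, 0, 2, -1, 0, 0, 0], [0, -1, -1, 2, -1, 0, 0], [0, 0, 0, -1, 2, -1, 0], [0, 0, 0, 0, -1, 2, -1], [0, 0, 0, 0, 0, -1, 2]]
  pi := [0, 1, 2, 3, 4, 5, 6]
  c := [1, 1, 1, 1, 1, 1, 1]
  L :=
    [[2, 0, -1, 0, 0, 0, 0], [0, 2, 0, -1, 0, 0, 0], [-1, 0, 2, -1, 0, 0, 0], [0, -1, -1, 2, -1, 0, 0], [0, 0, 0,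
    -1, 2, -1, 0], [0, 0, 0, 0, -1, 2, -1], [0, 0, 0, 0, 0, -1, 2], [1, 0, 1, -1, 0, 0, 0], [0, 1, -1, 1, -1, 0,
    0], [-1, -1, 1, 1, -1, 0, 0], [0, -1, -1, 1, 1, -1, 0], [0, 0, 0, -1, 1, 1, -1], [0, 0, 0, 0, -1, 1, 1], [1,
    -1, 0, 1, -1, 0, 0], [-1, 1, 1, 0, -1, 0, 0], [0, 1, -1, 0, 1, -1, 0], [-1, -1, 1, 0, 1, -1, 0], [0, -1, -1, 1,
    0, 1, -1], [0, 0, 0, -1, 1, 0, 1], [1, 1, 0, 0, -1, 0, 0], [1, -1, 0, 0, 1, -1, 0], [-1, 1, 1, -1, 1, -1, 0],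
    [0, 1, -1, 0, 0, 1, -1], [-1, -1, 1, 0, 0, 1, -1], [0, -1, -1, 1, 0, 0, 1], [1, 1, 0, -1, 1, -1, 0], [1, -1, 0,
    0, 0, 1, -1], [-1, 0, 0, 1, 0, -1, 0], [-1, 1, 1, -1, 0, 1, -1], [0, 1, -1, 0, 0, 0, 1], [-1, -1, 1, 0, 0, 0,
    1], [1, 0, -1, 1, 0, -1, 0], [1, 1, 0, -1, 0, 1, -1], [1, -1, 0, 0, 0, 0, 1], [-1, 0, 0, 1, -1, 1, -1], [-1, 1,
    1, -1, 0, 0, 1], [0, 0, 1, 0, 0, -1, 0], [1, 0, -1, 1, -1, 1, -1], [1, 1, 0, -1, 0, 0, 1], [-1, 0, 0, 0, 1, 0,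
    -1], [-1, 0, 0, 1, -1, 0, 1], [0, 0, 1, 0, -1, 1, -1], [1, 0, -1, 0, 1, 0, -1], [1, 0, -1, 1, -1, 0, 1], [-1,
    0, 0, 0, 1, -1, 1], [0, 0, 1, -1, 1, 0, -1], [0, 0, 1, 0, -1, 0, 1], [1, 0, -1, 0, 1, -1, 1], [-1, 0, 0, 0, 0,
    1, 0], [0, -1, 0, 1, 0, 0, -1], [0, 0, 1, -1, 1, -1, 1], [1, 0, -1, 0, 0, 1, 0], [0, 1, 0, 0, 0, 0, -1], [0,
    -1, 0, 1, 0, -1, 1], [0, 0, 1, -1, 0, 1, 0], [0, 1, 0, 0, 0, -1, 1], [0, -1, 0, 1, -1, 1, 0], [0, 1, 0, 0, -1,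
    1, 0], [0, -1, 0, 0, 1, 0, 0], [0, 1, 0, -1, 1, 0, 0], [0, 0, -1, 1, 0, 0, 0], [-1, 0, 1, 0, 0, 0, 0], [1, 0,
    0, 0, 0, 0, 0]]

theorem okE7 : tyE7.ok = true := by decide +kernel

def torE7a : Tor where
  wd := [1, 3, 5, 4, 2, 0, 3, 2]
  Gt := [-1, 0, 1, -1, 0, 1, -1]
  gt := [0, 0, 1, 0, 0, 1]
  e := [-1, 0, 0, 0, 1, 1, 0]
  xs :=
    [[-1, 0, 0, 0, 1, 1, 0], [0, 1, 1, 1, 0, -1, 0], [0, -1, 0, 0, -1, 0, 0], [-1, -1, -2, -2, 0, 0, 0], [0, 1, 1,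
    0, 0, 0, 0], [-1, 0, 0, 1, 0, 0, 0]]
  Us :=
    [[0, 2, 4, 3, 4, 2], [-2, -1, 1, -1, 1, 2], [1, 1, -1, -1, -1, -2], [-2, 0, 2, 2, 3, 4], [2, 1, 1, 1, -1, -1],
    [-3, -1, 1, 0, 1, 2], [1, -2, -2, -1, -1, -1], [2, 1, 0, 1, -1, -3], [0, -1, 1, 0, 1, 2], [3, 2, -2, 0, -2,
    -4], [3, 2, 1, 3, 1, -1], [2, 4, 3, 4, 2, 0], [-2, -2, -2, -1, -1, -1], [3, 4, 2, 3, 2, -2], [-4, -2, 0, -2, 2,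
    3], [-1, 1, 3, 1, 2, 3], [2, 1, 0, 1, -1, 0], [0, 1, 2, 3, 2, 1], [1, -2, -2, -1, -4, -1], [-1, 0, 1, 1, 3, 2],
    [2, 0, 1, 1, 0, -1], [4, 3, 2, 2, 0, -2], [-1, 0, 1, 1, 0, 2], [2, 3, 1, 1, 0, -1], [-2, -5, -5, -4, -4, -1],
    [1, 2, 3, 2, 1, 0], [1, 2, 1, 2, 1, -1], [2, 3, 4, 4, 3, 2], [-2, 2, 3, 2, 4, 3], [-2, -2, 1, -1, -1, 2], [1,
    1, -2, -1, -1, -1], [1, 1, 2, 2, 2, 1], [-1, 1, 2, 1, 2, 1], [1, 1, -2, -1, -1, -4], [-1, 1, 1, 1, 2, 2], [-2,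
    -2, -2, -4, -1, -1], [2, 2, 1, 1, 1, -1], [-1, 1, 0, 1, 2, 0], [-5, -5, -2, -4, -1, 2], [1, 2, 2, 2, 1, 1],
    [-2, -2, -2, -1, -1, 2], [1, 3, 2, 2, 3, 1], [1, 0, 2, 2, 0, 1], [-2, -2, 1, -1, 2, 2], [4, 1, -2, -1, -4, -4],
    [0, 2, 1, 0, 1, -1], [1, -2, -5, -4, -4, -4], [4, 4, 4, 5, 2, -1], [-5, -2, 1, -1, 2, 5], [1, 2, 0, 2, 1, 0],
    [1, 1, 1, -1, -1, -1], [-2, 1, 1, 2, 2, 2], [0, 1, 2, 0, 2, 1], [4, 1, 1, 2, -1, -1], [4, 4, 1, 2, -1, -4],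
    [-2, 1, 4, 2, 5, 5], [1, 4, 4, 5, 5, 2], [-2, 1, 1, -1, 2, 2], [1, 1, 1, 2, -1, -1], [1, 1, 4, 2, 2, 2], [1, 1,
    1, 2, 2, 2], [1, 4, 1, 2, 2, -1], [1, 1, 1, 2, 2, -1]]
  B := [2, 3, 5, 7]
  c := 3
  q₀ := 2

theorem okE7a : torE7a.ok tyE7 = true := by decide +kernel

def torE7b : Tor where
  wd := [4, 2, 0, 5, 1, 3, 6]
  Gt := [1, 0, -1, -1, 0, 1, 1]
  gt := [0, 0, -1, 0, 0, 1]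
  e := [0, 0, -1, 0, 0, 0, 0]
  xs :=
    [[0, 0, -1, 0, 0, 0, 0], [-1, -1, -1, -1, -1, 0, 0], [0, -1, -1, -2, -2, -1, 0], [-1, -1, -1, -2, -2, -2, -1],
    [0, -1, -1, -2, -1, -1, -1], [-1, 0, -1, -1, 0, 0, 0]]
  Us :=
    [[0, -1, -1, 0, -1, -1], [2, 1, -1, -1, 1, 2], [0, 1, 0, 0, 1, 0], [0, -2, 1, 0, 1, -2], [1, -1, 1, 1, -1, 1],
    [-1, 1, -1, -1, -2, -1], [1, -1, -2, -2, -1, 1], [1, 1, 0, 1, 1, 0], [2, -2, -1, -1, 1, -1], [1, 0, -1, -2, 0,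
    -1], [1, -1, 1, -2, -1, -2], [-1, 2, 0, 2, -1, 0], [0, 1, -2, 0, -2, 1], [0, 0, -1, 0, 0, -1], [2, 1, 2, -1, 1,
    -1], [1, 0, 2, 1, 0, -1], [1, -1, 1, 1, 2, -2], [-1, 0, 1, -1, 0, -2], [1, 2, 1, 1, -1, 1], [2, 1, -1, -1, -2,
    -1], [1, 2, 1, 1, -1, -2], [2, -1, 0, -1, 2, 0], [2, 1, 2, -1, -2, -1], [0, 2, 2, 0, -1, -1], [1, -1, 1, -2,
    -1, 1], [1, 0, 0, 1, 0, 0], [0, 1, 1, 0, -2, -2], [2, 0, 1, -1, 0, -2], [-1, 1, 2, -1, 1, -1], [1, 1, 0, -2,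
    -2, 0], [1, 2, 1, -2, -1, -2], [2, -1, 0, -1, -1, 0], [-1, 1, 2, 2, -2, -1], [1, 2, -2, -2, -1, 1], [-1, 1, 2,
    -1, -2, -1], [2, 0, 1, -1, 0, 1], [0, 1, 1, 0, 1, -2], [-1, 1, -1, 2, -2, -1], [2, 2, 0, -1, -1, 0], [0, 0, 2,
    0, 0, -1], [1, 0, 0, -2, 0, 0], [2, 1, -1, -1, 1, -1], [1, 1, 0, 1, -2, 0], [2, 0, -2, -1, 0, 1], [1, 2, 1, -2,
    -1, 1], [-1, 0, 1, 2, 0, -2], [0, 2, -1, 0, -1, -1], [1, -1, 1, 1, -1, -2], [1, 0, 2, -2, 0, -1], [0, 0, 1, 0,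
    0, -2], [1, 2, -2, 1, -1, 1], [0, 1, 0, 0, -2, 0], [2, -2, 2, -1, 1, -1], [1, -1, 1, -2, 2, -2], [0, 2, 0, 0,
    -1, 0], [2, 0, 0, -1, 0, 0], [-1, 2, 0, -1, -1, 0], [2, 1, -1, -1, -2, 2], [-2, 2, 1, 1, -1, -2], [0, 1, 1, 0,
    -2, 1], [0, -1, 2, 0, -1, -1], [1, 1, 0, -2, 1, 0], [1, 0, -1, 1, 0, -1]]
  B := [2, 3, 5, 7]
  c := 3
  q₀ := 2

theorem okE7b : torE7b.ok tyE7 = true := by decide +kernel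

theorem copE7 : copOK torE7a.Gt torE7b.Gt [1, 1, 1]
    [1, -1, 1] = true := by decide +kernel

def tyE8 : Ty where
  l := 8
  Am := [[2, 0, -1, 0, 0, 0, 0, 0], [0, 2, 0, -1, 0, 0, 0, 0], [-1, 0, 2, -1, 0, 0, 0, 0], [0, -1, -1, 2, -1, 0, 0, 0], [0, 0, 0, -1, 2, -1, 0, 0], [0, 0, 0, 0, -1, 2, -1, 0], [0, 0, 0, 0, 0, -1, 2, -1], [0, 0, 0, 0, 0, 0, -1, 2]]
  pi := [0, 1, 2, 3, 4, 5, 6, 7]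
  c := [1, 1, 1, 1, 1, 1, 1, 1]
  L :=
    [[2, 0, -1, 0, 0, 0, 0, 0], [0, 2, 0, -1, 0, 0, 0, 0], [-1, 0, 2, -1, 0, 0, 0, 0], [0, -1, -1, 2, -1, 0, 0, 0],
    [0, 0, 0, -1, 2, -1, 0, 0], [0, 0, 0, 0, -1, 2, -1, 0], [0, 0, 0, 0, 0, -1, 2, -1], [0, 0, 0, 0, 0, 0, -1, 2],
    [1, 0, 1, -1, 0, 0, 0, 0], [0, 1, -1, 1, -1, 0, 0, 0], [-1, -1, 1, 1, -1, 0, 0, 0], [0, -1, -1, 1, 1, -1, 0,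
    0], [0, 0, 0, -1, 1, 1, -1, 0], [0, 0, 0, 0, -1, 1, 1, -1], [0, 0, 0, 0, 0, -1, 1, 1], [1, -1, 0, 1, -1, 0, 0,
    0], [-1, 1, 1, 0, -1, 0, 0, 0], [0, 1, -1, 0, 1, -1, 0, 0], [-1, -1, 1, 0, 1, -1, 0, 0], [0, -1, -1, 1, 0, 1,
    -1, 0], [0, 0, 0, -1, 1, 0, 1, -1], [0, 0, 0, 0, -1, 1, 0, 1], [1, 1, 0, 0, -1, 0, 0, 0], [1, -1, 0, 0, 1, -1,
    0, 0], [-1, 1, 1, -1, 1, -1, 0, 0], [0, 1, -1, 0, 0, 1, -1, 0], [-1, -1, 1, 0, 0, 1, -1, 0], [0, -1, -1, 1, 0,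
    0, 1, -1], [0, 0, 0, -1, 1, 0, 0, 1], [1, 1, 0, -1, 1, -1, 0, 0], [1, -1, 0, 0, 0, 1, -1, 0], [-1, 0, 0, 1, 0,
    -1, 0, 0], [-1, 1, 1, -1, 0, 1, -1, 0], [0, 1, -1, 0, 0, 0, 1, -1], [-1, -1, 1, 0, 0, 0, 1, -1], [0, -1, -1, 1,
    0, 0, 0, 1], [1, 0, -1, 1, 0, -1, 0, 0], [1, 1, 0, -1, 0, 1, -1, 0], [1, -1, 0, 0, 0, 0, 1, -1], [-1, 0, 0, 1,
    -1, 1, -1, 0], [-1, 1, 1, -1, 0, 0, 1, -1], [0, 1, -1, 0, 0, 0, 0, 1], [-1, -1, 1, 0, 0, 0, 0, 1], [0, 0, 1, 0,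
    0, -1, 0, 0], [1, 0, -1, 1, -1, 1, -1, 0], [1, 1, 0, -1, 0, 0, 1, -1], [1, -1, 0, 0, 0, 0, 0, 1], [-1, 0, 0, 0,
    1, 0, -1, 0], [-1, 0, 0, 1, -1, 0, 1, -1], [-1, 1, 1, -1, 0, 0, 0, 1], [0, 0, 1, 0, -1, 1, -1, 0], [1, 0, -1,
    0, 1, 0, -1, 0], [1, 0, -1, 1, -1, 0, 1, -1], [1, 1, 0, -1, 0, 0, 0, 1], [-1, 0, 0, 0, 1, -1, 1, -1], [-1, 0,
    0, 1, -1, 0, 0, 1], [0, 0, 1, -1, 1, 0, -1, 0], [0, 0, 1, 0, -1, 0, 1, -1], [1, 0, -1, 0, 1, -1, 1, -1], [1, 0,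
    -1, 1, -1, 0, 0, 1], [-1, 0, 0, 0, 0, 1, 0, -1], [-1, 0, 0, 0, 1, -1, 0, 1], [0, -1, 0, 1, 0, 0, -1, 0], [0, 0,
    1, -1, 1, -1, 1, -1], [0, 0, 1, 0, -1, 0, 0, 1], [1, 0, -1, 0, 0, 1, 0, -1], [1, 0, -1, 0, 1, -1, 0, 1], [-1,
    0, 0, 0, 0, 1, -1, 1], [0, 1, 0, 0, 0, 0, -1, 0], [0, -1, 0, 1, 0, -1, 1, -1], [0, 0, 1, -1, 0, 1, 0, -1], [0,
    0, 1, -1, 1, -1, 0, 1], [1, 0, -1, 0, 0, 1, -1, 1], [-1, 0, 0, 0, 0, 0, 1, 0], [0, 1, 0, 0, 0, -1, 1, -1], [0,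
    -1, 0, 1, -1, 1, 0, -1], [0, -1, 0, 1, 0, -1, 0, 1], [0, 0, 1, -1, 0, 1, -1, 1], [1, 0, -1, 0, 0, 0, 1, 0], [0,
    1, 0, 0, -1, 1, 0, -1], [0, 1, 0, 0, 0, -1, 0, 1], [0, -1, 0, 0, 1, 0, 0, -1], [0, -1, 0, 1, -1, 1, -1, 1], [0,
    0, 1, -1, 0, 0, 1, 0], [0, 1, 0, -1, 1, 0, 0, -1], [0, 1, 0, 0, -1, 1, -1, 1], [0, -1, 0, 0, 1, 0, -1, 1], [0,
    -1, 0, 1, -1, 0, 1, 0], [0, 0, -1, 1, 0, 0, 0, -1], [0, 1, 0, -1, 1, 0, -1, 1], [0, 1, 0, 0, -1, 0, 1, 0], [0,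
    -1, 0, 0, 1, -1, 1, 0], [-1, 0, 1, 0, 0, 0, 0, -1], [0, 0, -1, 1, 0, 0, -1, 1], [0, 1, 0, -1, 1, -1, 1, 0], [0,
    -1, 0, 0, 0, 1, 0, 0], [1, 0, 0, 0, 0, 0, 0, -1], [-1, 0, 1, 0, 0, 0, -1, 1], [0, 0, -1, 1, 0, -1, 1, 0], [0,
    1, 0, -1, 0, 1, 0, 0], [1, 0, 0, 0, 0, 0, -1, 1], [-1, 0, 1, 0, 0, -1, 1, 0], [0, 0, -1, 1, -1, 1, 0, 0], [1,
    0, 0, 0, 0, -1, 1, 0], [-1, 0, 1, 0, -1, 1, 0, 0], [0, 0, -1, 0, 1, 0, 0, 0], [1, 0, 0, 0, -1, 1, 0, 0], [-1,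
    0, 1, -1, 1, 0, 0, 0], [1, 0, 0, -1, 1, 0, 0, 0], [-1, -1, 0, 1, 0, 0, 0, 0], [1, -1, -1, 1, 0, 0, 0, 0], [-1,
    1, 0, 0, 0, 0, 0, 0], [1, 1, -1, 0, 0, 0, 0, 0], [0, -1, 1, 0, 0, 0, 0, 0], [0, 1, 1, -1, 0, 0, 0, 0], [0, 0,
    0, 1, -1, 0, 0, 0], [0, 0, 0, 0, 1, -1, 0, 0], [0, 0, 0, 0, 0, 1, -1, 0], [0, 0, 0, 0, 0, 0, 1, -1], [0, 0, 0,
    0, 0, 0, 0, 1]]

theorem okE8 : tyE8.ok = true := by decide +kernel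

def torE8a : Tor where
  wd := [2, 7, 1, 6, 3, 5, 0, 4]
  Gt := [1, 0, -1, -1, -1, 0, 1, 1]
  gt := [1, 0, -1, -1, -1, 0, 1, 1]
  e := [1, 0, 0, 0, 0, 0, 0, 0]
  xs :=
    [[1, 0, 0, 0, 0, 0, 0, 0], [0, 0, -1, 0, 0, 0, 0, 0], [-1, -1, -1, -1, 0, 0, 0, 0], [-1, -1, -1, -2, -1, -1,
    -1, -1], [-1, -1, -1, -2, -2, -2, -2, -1], [-1, -1, -1, -2, -2, -2, -1, 0], [0, -1, -1, -2, -2, -1, 0, 0], [0,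
    0, -1, -1, -1, 0, 0, 0]]
  Us :=
    [[1, 0, -1, -1, -1, 0, 0, 1], [0, 0, 1, 0, 0, 0, 0, 0], [-2, 1, 0, 2, 0, 1, -1, -1], [-1, 0, 0, 0, 0, 0, -1,
    -1], [1, 0, 0, -1, -1, -1, 1, 1], [0, 1, 1, 1, 0, 0, -1, 0], [0, 0, 1, 1, 1, 0, 0, -1], [1, 1, 0, 0, 0, 0, 0,
    1], [1, 1, 0, 0, -1, 0, 0, 1], [0, 0, 1, 0, 1, 0, 0, -1], [0, 1, 0, 0, 0, 0, 0, 0], [-1, 0, 0, 0, 1, 0, 0, -1],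
    [1, 1, -1, -1, -1, -1, 0, 2], [-2, 0, 1, 2, 1, 1, -1, -2], [2, 0, 0, -1, 0, -1, 1, 1], [0, 1, 1, 1, 0, 0, -1,
    -1], [-1, 0, 1, 0, 1, 0, 0, -1], [0, 0, 0, -1, 0, 0, 0, 0], [-1, 0, 0, 0, 0, 0, 0, -1], [-1, 0, 0, 1, 0, 0, -1,
    0], [1, -1, 0, -1, 0, -1, 1, 0], [0, 1, 0, 0, 0, 0, -1, 1], [3, 0, 0, -2, -1, -1, 1, 2], [-1, 1, -1, 1, -1, 1,
    -1, 0], [1, 1, 1, 0, 0, -1, 0, 0], [1, 0, 0, -1, -1, -1, 0, 1], [0, 1, 0, 0, -1, -1, -1, 0], [-2, -1, 1, 1, 1,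
    1, -1, -2], [1, 0, -1, -1, -1, -1, 0, 1], [1, 0, 0, -1, -1, -1, 0, 0], [0, 0, 0, 0, -1, 0, 0, 0], [0, 1, 1, 0,
    0, -1, -1, -1], [2, 1, 0, -1, -1, -1, 0, 2], [0, 0, 1, 0, 0, -1, -1, -1], [0, 1, 1, 1, 0, -1, -1, -1], [0, 1,
    -1, 0, -1, 0, -1, 1], [-1, -1, 1, 0, 1, 0, 0, -2], [1, 1, 1, 0, -1, -1, -1, 0], [-1, 0, 0, 1, 0, 0, -1, -1],
    [-1, 1, 1, 1, 0, 0, -1, -1], [1, 0, 0, 0, 0, -1, 1, 0], [1, 1, 1, 0, 0, -1, -1, 0], [0, 1, 0, 1, 0, 0, -1, 0],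
    [-1, 0, 1, 1, 1, 0, 0, -2], [0, 1, 0, 0, -1, 0, -1, 0], [1, 0, 1, 0, 0, -1, 0, 0], [1, 1, 0, 0, -1, -1, -1, 0],
    [0, -1, 1, -1, 1, -1, 1, -1], [-1, 0, 1, 1, 1, 0, -1, -1], [1, 0, 0, 0, 0, -1, 0, 1], [-1, 0, 1, 1, 0, 1, -1,
    -1], [1, 0, 0, -1, -1, 0, 0, 1], [-1, 0, 1, 1, 1, 0, -1, -2], [1, 0, 0, 0, 0, 0, 0, 0], [0, 0, 0, 0, 0, -1, 0,
    0], [-3, 0, 1, 2, 2, 1, -1, -3], [2, 1, -1, -1, -2, -1, 0, 2], [-1, 0, 1, 1, 0, 0, 0, -1], [0, -1, 0, 0, 1, 0,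
    0, -1], [1, 1, 0, 0, -1, 0, -1, 1], [-2, 0, 1, 1, 1, 0, -1, -2], [1, 0, 0, -1, 0, -1, 0, 0], [-1, 1, 0, 0, 0,
    0, -1, 0], [0, 0, 1, 0, 0, -1, 0, -1], [1, 1, -1, 0, -1, 0, 0, 1], [1, 1, -1, 0, -2, 0, -1, 2], [2, 0, -1, -1,
    -1, -1, 1, 1], [1, 1, 0, 0, -1, -1, -1, 1], [1, 0, 1, -1, 0, -1, 0, 0], [0, 0, 0, 0, 0, 0, 0, -1], [0, 1, 0, 1,
    -1, 0, -1, 0], [2, 1, 0, -1, -1, -1, 0, 1], [0, 0, 0, 0, 0, 0, -1, 0], [0, 0, 1, 0, 1, -1, 0, -1], [0, 0, 1, 0,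
    0, 0, 0, -1], [-1, 0, 1, 1, 0, 0, -1, -1], [-1, 1, 0, 1, 0, 0, -1, -1], [1, 1, 0, 0, -1, -1, 0, 1], [2, 0, 0,
    -1, -1, -1, 0, 1], [-2, -1, 2, 1, 2, 0, 0, -3], [1, 1, 0, -1, 0, -1, 0, 1], [-1, 0, 0, 1, 0, 0, 0, -1], [0, 1,
    0, 0, 0, 0, -1, 0], [3, 1, -1, -1, -2, -1, 0, 3], [0, -1, 1, 0, 0, 0, 0, -1], [1, 1, 0, -1, -1, 0, 0, 1], [1,
    1, -1, -1, -1, 0, 0, 1], [0, 0, 0, 1, 0, 0, 0, -1], [-1, 0, 1, 0, 0, 0, 0, -1], [1, 1, 0, -1, -1, -1, 0, 1],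
    [0, -1, 1, 0, 1, 0, 0, -1], [-2, -1, 1, 1, 2, 0, 0, -3], [0, 1, 0, 0, 0, -1, 0, 0], [3, 1, -1, -2, -2, -1, 0,
    3], [1, 0, 0, 0, 0, -1, 0, 0], [1, 1, -1, 0, -1, -1, 0, 1], [-3, 0, 1, 2, 1, 1, -1, -3], [1, 2, -1, 0, -2, 0,
    -1, 2], [-1, 0, 1, 0, 1, 0, -1, -1], [0, 0, 1, 0, 0, 0, -1, 0], [1, 0, 0, 0, -1, 0, 0, 0], [0, 0, 0, 0, 1, 0,
    0, -1], [-2, 1, 0, 2, 0, 1, -2, -1], [1, -1, 1, -1, 1, -1, 1, -1], [-1, 1, 0, 1, 0, 0, -1, 0], [1, 0, 0, -1, 0,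
    -1, 0, 1], [0, 0, 0, 1, 0, 0, -1, 0], [3, 0, 0, -2, -1, -2, 1, 2], [1, 0, 0, 0, -1, -1, 0, 1], [-1, 0, 0, 1, 1,
    0, -1, -1], [-1, 0, 0, 1, 0, 1, -1, -1], [0, 0, 1, 0, 0, -1, 0, 0], [1, 0, 0, -1, 0, 0, 0, 0], [0, 1, 0, 0, -1,
    0, 0, 0], [2, 0, 0, -1, -1, -1, 1, 1], [-2, 0, 1, 1, 1, 1, -1, -2], [1, 0, 0, -1, 0, -1, 1, 0], [0, 1, 0, 0,
    -1, 0, -1, 1], [-1, -1, 1, 1, 1, 0, 0, -2], [2, 1, -1, -1, -1, -1, 0, 2]]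
  B := [2, 3, 5, 7]
  c := 1
  q₀ := 2

theorem okE8a : torE8a.ok tyE8 = true := by decide +kernel

def torE8b : Tor where
  wd := [1, 5, 2, 6, 0, 3, 4, 7, 1, 3]
  Gt := [0, 0, 0, -1, 0, 0, 0, 1]
  gt := [0, 0, 0, -1, 0, 0, 0, 1]
  e := [1, 0, 0, 0, 0, 0, 0, 0]
  xs :=
    [[1, 0, 0, 0, 0, 0, 0, 0], [-1, 0, -1, 0, 0, 0, 0, 0], [0, -1, -1, -2, -1, -1, 0, 0], [-1, -1, -1, -1, -1, -1,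
    -1, 0], [-1, -1, -1, -2, -2, -2, -1, -1], [0, -1, -1, -2, -2, -1, -1, 0], [-1, 0, -1, -1, -1, -1, -1, -1], [0,
    -1, -1, -2, -1, 0, 0, 0]]
  Us :=
    [[0, 1, -1, -1, 1, -1, -1, 1], [-1, 0, 1, 1, 1, 1, 0, -1], [-1, 0, 1, 0, 0, 1, 0, -1], [2, -1, -2, 0, -1, -1,
    1, 0], [-1, 1, 0, -1, 0, -1, -1, 0], [1, 0, -1, 1, 1, -1, 0, 1], [0, 0, 0, 0, -1, -1, 0, 0], [0, 0, 0, -1, -1,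
    0, 0, 0], [-1, 1, 1, -1, 1, 1, -1, 0], [0, -1, 0, 0, -1, 0, 0, -1], [1, 0, 0, 1, 0, 0, 1, 0], [0, 1, 0, -1, 0,
    -1, 0, 1], [0, 1, 1, 0, 1, 0, -1, 1], [0, 0, 0, 1, 0, 0, 0, 0], [0, 0, 0, 0, -1, 0, 0, 0], [1, 0, -1, 0, -1,
    -1, 0, 0], [0, -1, 1, 1, 0, 2, 1, -2], [-2, 0, 1, -1, 1, 0, -2, -1], [0, 1, 0, -1, 0, -1, -1, 0], [0, 0, 0, 0,
    0, -1, -1, 0], [1, 1, 0, 1, 0, -1, 0, 0], [0, 0, 1, 1, 0, 0, 0, 0], [0, 0, 1, 1, 0, 1, 0, -1], [0, 2, -1, -2,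
    0, -1, -1, 1], [0, 1, 1, 0, 0, 0, 0, 0], [0, 1, 1, 0, 1, 0, -1, 0], [1, 2, 0, -1, 1, -1, 0, 2], [0, 0, 0, 0, 0,
    -1, 0, 0], [0, 0, 1, 0, -1, 0, -1, -1], [0, 0, 0, 0, 0, 0, -1, -1], [1, 1, 0, 0, 0, 0, 0, 0], [-1, 0, 1, -1, 0,
    1, -1, -1], [-1, 0, 1, 0, 1, 0, -1, 0], [1, 0, 0, 1, -1, -1, 0, -1], [1, 1, 0, 1, 0, -1, 1, 0], [1, -1, 0, 1,
    -2, -1, 1, 0], [-1, 1, 0, -1, 1, 0, -1, 0], [-1, 1, 1, 0, 2, 1, -2, 0], [1, 1, 0, 0, -1, -1, 0, 0], [1, 1, -1,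
    0, 1, -1, 0, 1], [0, -1, 1, 2, -1, 0, 1, -1], [0, -1, 1, 0, -1, 0, -1, -1], [1, 0, 1, 1, -1, 0, 0, -1], [0, 1,
    1, 0, 0, 0, -1, -1], [1, 1, 0, 0, 0, -1, -1, 0], [1, -1, 0, 2, -1, 0, 1, -1], [1, -1, 0, 1, -2, 0, 1, -1], [0,
    1, 1, 0, 0, -1, -1, 0], [1, 0, 0, 1, 0, 0, 0, -1], [0, 0, 1, 0, 0, 0, 0, 0], [0, 1, 0, -1, 1, 0, -1, 1], [0, 0,
    0, 0, 0, 0, -1, 0], [1, 0, -1, 1, -1, -1, 0, -1], [0, 0, 1, 1, 0, 0, -1, -1], [1, 1, -1, 0, 0, -2, 0, 1], [1,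
    0, 0, 0, -1, 0, 0, -1], [0, 1, 0, 0, 0, 0, 0, 0], [2, 0, -1, 2, -1, 0, 2, -1], [0, 1, -1, 0, 1, -2, -1, 1], [1,
    -2, 0, 1, -2, 1, 0, -2], [1, 1, 0, 1, 1, -2, 0, 1], [-1, 0, 2, -1, -1, 0, -1, -1], [1, 1, 0, -1, 0, -1, -1, 0],
    [0, 2, 0, -1, 1, -1, -1, 1], [1, 0, 1, 1, -1, 1, 0, -1], [1, 1, 0, 1, 0, -1, -1, 0], [-1, 0, 1, 0, 0, 0, -1,
    0], [-1, 0, 2, 0, 0, 1, -1, -1], [0, 1, 1, 0, 1, 0, -1, -1], [2, 1, -2, 0, -1, -2, 1, 0], [0, 1, 0, 0, 0, -1,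
    0, 1], [0, 1, 1, 0, -1, 0, -1, -1], [-1, 1, 1, -1, 1, 0, -2, 0], [1, 0, 1, 1, -1, -1, 0, -1], [0, -1, 1, 1, -1,
    1, 0, -2], [1, 0, 0, 0, 0, 0, 0, 0], [0, -1, 1, 0, -1, 1, 0, -1], [-1, 1, 2, -1, 0, 1, -1, 0], [1, -1, 0, 2,
    -2, -1, 0, -1], [1, 0, -1, 1, 0, -1, 1, 0], [0, 0, 0, 0, 0, 0, 0, -1], [0, 1, 0, 0, 0, -1, 0, 0], [2, 0, -1, 1,
    -1, -1, 1, 0], [1, 0, 1, 2, -2, 0, 1, -1], [-1, 2, 1, 0, 2, -1, -2, 0], [0, -1, 2, 1, 0, 2, -1, -2], [0, 2, 1,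
    -2, 0, -1, -2, 1], [1, 0, 0, 0, -1, 0, 0, 0], [1, 1, -1, 0, 1, -2, -1, 0], [0, 0, 1, 0, 0, 0, -1, 0], [0, 0, 0,
    1, 0, 0, 0, -1], [1, 0, -1, 1, -1, -1, 1, 0], [1, 2, -1, -1, 1, -1, 0, 1], [-1, 0, 1, -1, 1, 1, -2, -1], [-1,
    0, 2, 1, -1, 0, -1, -2], [2, 1, 0, 1, -1, -2, 0, 1], [1, 2, -1, 0, 1, -1, -1, 0], [0, 1, 2, -1, 0, 1, -1, -1],
    [0, -1, 0, 1, 0, 0, 0, -1], [0, -1, 1, 1, -1, 1, 0, -1], [0, 1, 1, -1, 0, 1, -2, -1], [1, 0, 1, 1, -2, 0, 1,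
    -2], [2, -1, 0, 2, -1, -1, 0, -1], [1, -1, 0, 1, -2, 1, 1, -2], [1, 0, 0, 0, -1, 0, 1, 0], [0, 1, 0, -1, 1, -1,
    -1, 1], [2, -1, -1, 2, -1, 0, 1, -1], [-1, 1, 1, -1, 1, 0, -1, 0], [-1, 2, 1, -1, 1, -1, -2, 1], [2, 1, -1, 0,
    -1, -2, 1, 1], [1, 0, -1, 0, 0, 0, 0, 0], [-1, -1, 2, 1, 0, 1, -1, -2], [-1, 0, 1, 0, 0, 1, -1, -1], [1, 1, -1,
    0, 0, -1, 0, 1], [0, 0, 0, 0, 0, 1, 0, -1], [1, -1, 0, 1, -1, 0, 1, -1], [0, 1, 0, -1, 0, 0, 0, 0], [0, 0, 0,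
    0, 1, 0, -1, 0], [0, 0, 0, 1, 0, -1, 0, 0], [0, 0, 1, 0, -1, 0, 0, 0]]
  B := [2, 3, 5, 7]
  c := 1
  q₀ := 2

theorem okE8b : torE8b.ok tyE8 = true := by decide +kernel

theorem copE8 : copOK torE8a.Gt torE8b.Gt [0, -1, 0, 0, 0, 1, 0, 1]
    [1, 1, 1, 0, 0, -1, -1, -1] = true := by decide +kernel

def tyTE6 : Ty where
  l := 6
  Am := [[2, 0, -1, 0, 0, 0], [0, 2, 0, -1, 0, 0], [-1, 0, 2, -1, 0, 0], [0, -1, -1, 2, -1, 0], [0, 0, 0, -1, 2, -1], [0, 0, 0, 0, -1, 2]]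
  pi := [5, 1, 4, 3, 2, 0]
  c := [1, 1, 1, 1, 1, 1]
  L :=
    [[2, 0, -1, 0, 0, 0], [0, 2, 0, -1, 0, 0], [-1, 0, 2, -1, 0, 0], [0, -1, -1, 2, -1, 0], [0, 0, 0, -1, 2, -1],
    [0, 0, 0, 0, -1, 2], [1, 0, 1, -1, 0, 0], [0, 1, -1, 1, -1, 0], [-1, -1, 1, 1, -1, 0], [0, -1, -1, 1, 1, -1],
    [0, 0, 0, -1, 1, 1], [1, -1, 0, 1, -1, 0], [-1, 1, 1, 0, -1, 0], [0, 1, -1, 0, 1, -1], [-1, -1, 1, 0, 1, -1],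
    [0, -1, -1, 1, 0, 1], [1, 1, 0, 0, -1, 0], [1, -1, 0, 0, 1, -1], [-1, 1, 1, -1, 1, -1], [0, 1, -1, 0, 0, 1],
    [-1, -1, 1, 0, 0, 1], [1, 1, 0, -1, 1, -1], [1, -1, 0, 0, 0, 1], [-1, 0, 0, 1, 0, -1], [-1, 1, 1, -1, 0, 1],
    [1, 0, -1, 1, 0, -1], [1, 1, 0, -1, 0, 1], [-1, 0, 0, 1, -1, 1], [0, 0, 1, 0, 0, -1], [1, 0, -1, 1, -1, 1],
    [-1, 0, 0, 0, 1, 0], [0, 0, 1, 0, -1, 1], [1, 0, -1, 0, 1, 0], [0, 0, 1, -1, 1, 0], [0, -1, 0, 1, 0, 0], [0, 1,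
    0, 0, 0, 0]]

theorem okTE6 : tyTE6.ok = true := by decide +kernel

def torTE6a : Tor where
  wd := [0, 1, 2, 3]
  Gt := [0, 0, -1, 0, 0, 1]
  gt := [0, 0, -1, 0, 0, 1]
  e := [1, 0, 0, 0, 0, 0]
  xs :=
    [[1, 0, 0, 0, 0, 0], [0, 0, 0, 0, 1, 0], [0, 1, 1, 1, 1, 1], [0, 1, 1, 2, 1, 1], [1, 0, 1, 1, 0, 0], [0, 0, 0,
    0, 0, -1]]
  Us :=
    [[2, -2, -1, -1, -2, 2], [1, -1, -2, -2, -1, 1], [-1, 1, -1, 2, 1, 2], [0, -1, 2, 0, 2, -1], [-2, -1, 1, -2, 2,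
    -2], [-2, 2, -2, 1, -1, -2], [-2, -1, -2, 1, -1, 1], [1, -1, 1, 1, 2, 1], [-1, 1, -1, 2, 1, -1], [-2, -1, 1, 1,
    2, 1], [-1, 1, -1, -1, 1, -1], [-2, 2, -2, 4, -1, 1], [1, 0, -1, 1, 0, 2], [-1, -2, -1, -1, 1, 2], [-2, 1, 0,
    1, 1, 0], [-1, -2, -1, -1, 1, -1], [-1, -2, -1, 2, 1, 2], [-4, 1, -1, 2, 1, -1], [1, -1, -2, 1, -1, 4], [1, -2,
    0, -2, 1, 0], [-2, -1, -2, 1, 2, 1], [0, -1, -1, 0, -1, 2], [-2, 0, -1, 1, 0, -1], [1, -1, 1, -2, 2, 1], [-1,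
    1, -4, 2, -2, 2], [0, -2, 1, 0, 1, 1], [1, -1, -2, 1, -1, 1], [-1, -2, 2, -1, 4, -1], [-1, 1, -1, 2, -2, 2],
    [1, -4, 1, -2, 2, 1], [-1, -1, 0, -1, 2, 0], [-1, 0, -2, 2, 0, 1], [-1, -2, 2, -1, 1, -1], [-2, 2, -2, 1, -1,
    1], [-2, -1, 1, 1, 2, -2], [2, -2, -1, -1, 1, 2]]
  B := [2, 3, 5, 7]
  c := 3
  q₀ := 2

theorem okTE6a : torTE6a.ok tyTE6 = true := by decide +kernel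

def torTE6b : Tor where
  wd := [2, 5, 0, 3, 1, 2]
  Gt := [-1, 0, 1, 0, -1, 1]
  gt := [0, -1, 0, 1]
  e := [1, 1, 0, 0, 1, 1]
  xs :=
    [[1, 1, 0, 0, 1, 1], [0, -1, 1, 1, 0, 0], [-1, 1, 0, 1, 0, -1], [1, 0, 0, -1, 0, 1]]
  Us :=
    [[0, -1, -2, -1], [-1, 1, 3, 2], [0, 0, 1, 1], [-1, -2, -1, 0], [0, 0, -1, -1], [-1, 0, 2, 2], [-1, 0, 2, 2],
    [-2, -1, 2, 2], [-2, -1, 3, 3], [0, -1, -1, -1], [0, -1, -2, -1], [-2, -2, 1, 2], [-1, 0, 2, 1], [-1, -2, -2,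
    -1], [-1, -2, -1, 0], [0, -1, -1, 0], [-1, 0, 1, 1], [0, -1, -1, 0], [-2, -1, 2, 2], [-2, -2, 0, 1], [-2, -2,
    1, 2], [-2, -2, 0, 1], [-2, -3, -1, 1], [-3, -3, 1, 2], [-1, 0, 1, 1], [-1, -1, 0, 0], [-3, -2, 2, 3], [-1, -1,
    1, 1], [-1, -1, 1, 1], [-1, -1, 0, 1], [-1, -1, 0, 0], [-1, -1, 1, 2], [-1, -1, -1, 0], [-1, -1, 0, 1], [-1,
    -2, 0, 1], [-2, -1, 1, 1]]
  B := [2, 3, 5, 7]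
  c := 1
  q₀ := 2

theorem okTE6b : torTE6b.ok tyTE6 = true := by decide +kernel

theorem copTE6 : copOK torTE6a.Gt torTE6b.Gt [0, 2, 0, 1, 0, 2]
    [3, 1, 1, -3, -2, -2] = true := by decide +kernel

def tyTD4 : Ty where
  l := 4
  Am := [[2, -1, 0, 0], [-1, 2, -1, -1], [0, -1, 2, 0], [0, -1, 0, 2]]
  pi := [2, 1, 3, 0]
  c := [1, 1, 1, 1]
  L :=
    [[2, -1, 0, 0], [-1, 2, -1, -1], [0, -1, 2, 0], [0, -1, 0, 2], [1, 1, -1, -1], [-1, 1, 1, -1], [-1, 1, -1, 1],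
    [1, 0, 1, -1], [1, 0, -1, 1], [-1, 0, 1, 1], [1, -1, 1, 1], [0, 1, 0, 0]]

theorem okTD4 : tyTD4.ok = true := by decide +kernel

def torTD4a : Tor where
  wd := [0, 1]
  Gt := [0, -1, 0, 1]
  gt := [0, -1, 0, 1]
  e := [1, 0, 0, 0]
  xs :=
    [[1, 0, 0, 0], [0, 1, 0, 0], [-1, -1, 0, -1], [0, -1, -1, 0]]
  Us :=
    [[-1, -1, -1, 0], [-1, -2, 0, 1], [1, 1, -1, -2], [1, 1, -1, 0], [0, -1, -1, 1], [0, -1, -1, -1], [2, 1, -1,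
    -1], [-1, 0, 0, -1], [1, 0, -2, -1], [1, 0, 0, -1], [0, 1, -1, -1], [1, -1, -1, 0]]
  B := [2, 3, 5]
  c := 1
  q₀ := 2

theorem okTD4a : torTD4a.ok tyTD4 = true := by decide +kernel

def torTD4b : Tor where
  wd := [1, 0, 1, 3, 2, 1, 2, 0]
  Gt := [1, 1]
  gt := [1, 1]
  e := [1, 0, 0, 0]
  xs :=
    [[1, 0, 0, 0], [0, -1, -1, -1]]
  Us :=
    [[-2, -1], [1, 1], [0, -1], [0, -1], [-1, 0], [1, 0], [1, 0], [-1, -1], [-1, -1], [1, -1], [-1, -2], [0, -1]]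
  B := [2, 3, 5]
  c := 3
  q₀ := 2

theorem okTD4b : torTD4b.ok tyTD4 = true := by decide +kernel

theorem copTD4 : copOK torTD4a.Gt torTD4b.Gt [0, -1]
    [2, -1, -1, 1] = true := by decide +kernel

def tyTF4 : Ty where
  l := 4
  Am := [[2, -1, 0, 0], [-1, 2, -2, 0], [0, -1, 2, -1], [0, 0, -1, 2]]
  pi := [3, 2, 1, 0]
  c := [2, 2, 1, 1]
  L :=
    [[2, -1, 0, 0], [-1, 2, -2, 0], [0, -1, 2, -1], [0, 0, -1, 2], [1, 1, -2, 0], [-1, 0, 2, -2], [-1, 1, 0, -1],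
    [0, -1, 1, 1], [1, -1, 2, -2], [-1, 0, 0, 2], [1, 0, 0, -1], [-1, 1, -1, 1], [0, 1, 0, -2], [1, -1, 0, 2], [1,
    0, -1, 1], [-1, 0, 1, 0], [0, 1, -2, 2], [1, -1, 1, 0], [0, -1, 2, 0], [0, 1, -1, 0], [-1, 1, 0, 0], [0, 0, 1,
    -1], [1, 0, 0, 0], [0, 0, 0, 1]]

theorem okTF4 : tyTF4.ok = true := by decide +kernel

def torTF4a : Tor where
  wd := [3, 2, 0, 3, 1, 0, 2, 3, 1, 2]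
  Gt := [2, 2, 4, 4]
  gt := [2, 2, 4, 4]
  e := [1, 0, 0, 0]
  xs :=
    [[1, 0, 0, 0], [2, 2, 1, 1], [4, 6, 4, 2], [4, 4, 4, 2]]
  Us :=
    [[-1, 0, -2, -4], [1, 0, 0, 0], [-2, -1, -2, -4], [1, 1, 0, 2], [-1, -1, -1, -4], [-1, -2, 0, -4], [0, -1, 0,
    0], [0, 0, 0, 1], [-1, -1, -1, -2], [1, 0, 0, 4], [-1, -1, -2, -4], [1, 0, 0, 2], [-1, -2, -2, -4], [0, 0, -1,
    0], [-1, 0, -2, -2], [2, 1, 2, 6], [3, 2, 2, 8], [-1, -1, -2, -2], [-1, 0, -2, 0], [0, -1, 0, -2], [1, 0, 1,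
    2], [-1, -1, -1, -3], [-3, -2, -4, -8], [1, 1, 0, 4]]
  B := [2, 3, 5]
  c := 1
  q₀ := 1

theorem okTF4a : torTF4a.ok tyTF4 = true := by decide +kernel

def torTF4b : Tor where
  wd := [0, 1]
  Gt := [-2, 2, -4, 4]
  gt := [-2, 2, -4, 4]
  e := [1, 0, 0, 0]
  xs :=
    [[1, 0, 0, 0], [-2, 0, 1, 0], [2, 2, 0, 2], [0, 0, 0, -2]]
  Us :=
    [[-5, 2, -6, 12], [1, 0, 1, -2], [-2, 1, -2, 5], [-3, 1, -4, 6], [3, 0, 4, -4], [0, 1, 1, 2], [1, 0, 2, -2],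
    [-2, 1, -2, 4], [-5, 4, -4, 16], [-3, 2, -3, 8], [-1, 2, 0, 6], [1, 1, 2, 0], [1, 0, 2, 0], [-3, 2, -4, 8],
    [-4, 3, -4, 12], [-3, 3, -2, 10], [-3, 4, -2, 12], [-2, 1, -2, 6], [-3, 2, -2, 8], [0, 1, 0, 2], [-1, 2, 0, 4],
    [-1, 1, 0, 4], [-1, 1, -1, 4], [-1, 1, -1, 3]]
  B := [2, 3, 5]
  c := 1
  q₀ := 2

theorem okTF4b : torTF4b.ok tyTF4 = true := by decide +kernel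

theorem copTF4 : copOK torTF4a.Gt torTF4b.Gt [1, -1]
    [1, 1] = true := by decide +kernel

end Cfsg.Agent.DL.Rows.Cert
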